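import Groth.Agent.RegImmH1.Algebra
import Groth.Agent.Omega15.UnivConormal
import Groth.Agent.Omega15.ConormalPi
import Groth.Agent.CAlgH.RegImmStalk
import Groth.Agent.SDiv28.RegImmKinds
import Groth.Agent.S9372

/-!
# The conormal sequence of an `H₁`-regular immersion

Short exactness of the conormal sequence of quasi-compact immersions `i ≫ j` with `i`
`H₁`-regular, and local freeness of the conormal sheaf of `i`.
-/

set_option autoImplicit false
set_option backward.isDefEq.respectTransparency.types false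
set_option backward.isDefEq.respectTransparency false
set_option linter.style.haveILetI false
universe u

open CategoryTheory CategoryTheory.Limits AlgebraicGeometry TopologicalSpace Opposite
open scoped TensorProduct

noncomputable section

namespace Groth.Agent.RegImmH1

open OmegaLib Thick15 Omega15

variable {Z Y X : Scheme.{u}}

/-- The stalk map of an `H₁`-regular immersion has kernel generated by an `H₁`-regular sequence. -/
theorem exists_h1_stalk (i : Z ⟶ Y) (hi : RegImm.IsRegularImmersion RegImm.Kind.h1 i) (z : Z) :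
    ∃ (n : ℕ) (g : Fin n → Y.presheaf.stalk (i z)),
      CAlgX.IsH1Regular g ∧ RingHom.ker (i.stalkMap z).hom = Ideal.span (Set.range g) := by
  obtain ⟨⟨U, hU⟩, hz, hc, rs, hrs, hker⟩ := hi.2 z
  haveI := hi.1
  letI := Y.presheaf.algebra_section_stalk ⟨i z, hz⟩
  haveI := hU.isLocalization_stalk ⟨i z, hz⟩
  haveI : Module.Flat Γ(Y, U) (Y.presheaf.stalk (i z)) :=
    IsLocalization.flat _ (hU.primeIdealOf ⟨i z, hz⟩).asIdeal.primeCompl
  refine ⟨rs.length, fun k => algebraMap Γ(Y, U) (Y.presheaf.stalk (i z)) (rs.get k),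
    SDiv28.RegSeq.isH1Regular_map (S := Y.presheaf.stalk (i z)) hrs, ?_⟩
  rw [CAlgH.RegImmStalk.ker_stalkMap_eq i z hU hz, hker, Ideal.map_ofList]
  show Ideal.ofList _ = _
  rw [Ideal.ofList]
  congr 1
  ext a
  simp only [List.mem_map, Set.mem_range]
  constructor
  · rintro ⟨c, hc, rfl⟩
    obtain ⟨k, rfl⟩ := List.mem_iff_get.1 hc
    exact ⟨k, rfl⟩
  · rintro ⟨k, rfl⟩
    exact ⟨rs.get k, List.get_mem _ _, rfl⟩

/-- The conormal sheaf of an `H₁`-regular closed immersion into an affine scheme is free. -/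
theorem exists_iso_freeMod_conormal (e : Z ⟶ Y) [IsClosedImmersion e] [IsAffine Y]
    {n : ℕ} (f : Fin n → Γ(Y, ⊤)) (hf : CAlgX.IsH1Regular f)
    (hk : RingHom.ker e.appTop.hom = Ideal.span (Set.range f)) :
    Nonempty (Omega.conormal e ≅ FlatMod.freeMod Z n) := by
  obtain ⟨hZ, hsur⟩ := IsClosedImmersion.isAffine_surjective_of_isAffine e
  haveI := hZ
  haveI := isQCoh_conormal e
  haveI := MorProj.isQCoh_idealMod e.ker
  haveI := AmpleLib.mono_idealModι e.ker
  letI := (e.appLE ⊤ ⊤ le_top).hom.toAlgebra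
  have halg : algebraMap Γ(Y, ⊤) Γ(Z, ⊤) = e.appTop.hom := by
    show (e.appLE ⊤ ⊤ le_top).hom = _
    rw [show e.appLE ⊤ ⊤ le_top = e.appTop from Scheme.Hom.appLE_eq_app e (U := ⊤)]
  let I : Ideal Γ(Y, ⊤) := RingHom.ker (algebraMap Γ(Y, ⊤) Γ(Z, ⊤))
  have hI : Ideal.span (Set.range f) = I := by rw [← hk, ← halg]
  let fI : Fin n → I := fun k => ⟨f k, hI ▸ Ideal.subset_span ⟨k, rfl⟩⟩
  obtain ⟨b, -⟩ := exists_basis_cotangent fI hf hI
  let φ : Γ(ClSub.idealMod e.ker, ⊤) →ₗ[Γ(Y, ⊤)] Γ(Y, ⊤) := Coherent.appLin (ClSub.idealModι e.ker) ⊤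
  have hrange : LinearMap.range φ = I := by
    ext a
    show a ∈ LinearMap.range φ ↔ a ∈ RingHom.ker (algebraMap Γ(Y, ⊤) Γ(Z, ⊤))
    rw [halg, show e.appTop = e.app ⊤ from rfl, ← Scheme.Hom.ker_apply e ⟨⊤, isAffineOpen_top Y⟩,
      ← e.ker.ker_subschemeι_app ⟨⊤, isAffineOpen_top Y⟩, RingHom.mem_ker, LinearMap.mem_range]
    exact AmpleLib.mem_range_idealModι e.ker ⊤ a
  let eI : Γ(ClSub.idealMod e.ker, ⊤) ≃ₗ[Γ(Y, ⊤)] I :=
    (LinearEquiv.ofInjective φ (Coherent.app_injective_of_mono (ClSub.idealModι e.ker) ⊤)).trans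
      (LinearEquiv.ofEq _ _ hrange)
  obtain ⟨E⟩ := Flatn12.nonempty_pullback_sections_equiv e (ClSub.idealMod e.ker) (isAffineOpen_top Y)
    (isAffineOpen_top Z) le_top
  have hs : Function.Surjective (Algebra.ofId Γ(Y, ⊤) Γ(Z, ⊤)) := by
    show Function.Surjective (algebraMap Γ(Y, ⊤) Γ(Z, ⊤))
    rw [halg]; exact hsur
  let q : (Γ(Y, ⊤) ⧸ I) ≃ₐ[Γ(Y, ⊤)] Γ(Z, ⊤) :=
    Ideal.quotientKerAlgEquivOfSurjective (f := Algebra.ofId Γ(Y, ⊤) Γ(Z, ⊤)) hs
  let e1 : Γ(Z, ⊤) ⊗[Γ(Y, ⊤)] Γ(ClSub.idealMod e.ker, ⊤) ≃ₗ[Γ(Y, ⊤)] I.Cotangent :=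
    (TensorProduct.congr q.symm.toLinearEquiv eI).trans (TensorProduct.quotTensorEquivQuotSMul I I)
  let E₀ : Γ(Omega.conormal e, ⊤) ≃+ I.Cotangent := E.symm.toAddEquiv.trans e1.toAddEquiv
  have hsemi : ∀ (c : Γ(Z, ⊤)) (m : Γ(Omega.conormal e, ⊤)), E₀ (c • m) = q.symm c • E₀ m := by
    intro c m
    show e1 (E.symm (c • m)) = q.symm c • e1 (E.symm m)
    rw [map_smul]
    generalize E.symm m = t
    obtain ⟨a, rfl⟩ := hsur c
    rw [show e.appTop a = algebraMap Γ(Y, ⊤) Γ(Z, ⊤) a from (congr($halg a)).symm, algebraMap_smul,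
      AlgEquiv.commutes, map_smul]
    rfl
  let bZ : Module.Basis (Fin n) Γ(Z, ⊤) Γ(Omega.conormal e, ⊤) := by
    letI := Module.compHom I.Cotangent q.symm.toRingEquiv.toRingHom
    let L : Γ(Omega.conormal e, ⊤) ≃ₗ[Γ(Z, ⊤)] I.Cotangent :=
      { E₀ with map_smul' := fun c m => hsemi c m }
    exact (b.mapCoeffs q.toRingEquiv fun c m => by
      show q.symm (q c) • m = c • m
      rw [AlgEquiv.symm_apply_apply]).map L.symm
  exact Props12.exists_iso_freeMod_of_basis _ bZ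

/-- The conormal sheaf of a quasi-compact `H₁`-regular immersion is finite locally free. -/
theorem isFinLocFree_conormal (i : Z ⟶ Y) [IsImmersion i] [QuasiCompact i]
    (hi : RegImm.IsRegularImmersion RegImm.Kind.h1 i) : FlatMod.IsFinLocFree (Omega.conormal i) := by
  refine DQCoh.isFinLocFree_of_local (Omega.conormal i) fun x => ?_
  obtain ⟨⟨W, hW⟩, hxW, hc, rs, hrs, hker⟩ := hi.2 x
  haveI : IsClosedImmersion (i ∣_ W) := hc
  haveI : IsAffine (W : Scheme.{u}) := hW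
  let τ : Γ(Y, W) →+* Γ((W : Scheme.{u}), ⊤) := W.topIso.inv.hom
  have hfl : τ.Flat := RingHom.Flat.of_bijective (ConcreteCategory.bijective_of_isIso W.topIso.inv)
  have key : ∀ {V : Y.Opens} (hV : W.ι ''ᵁ ⊤ = V),
      RingHom.ker (i ∣_ W).appTop.hom = (RingHom.ker (i.app V).hom).map (Y.presheaf.map (eqToHom hV).op).hom := by
    rintro V rfl
    show RingHom.ker ((i ∣_ W).app ⊤).hom = _
    rw [morphismRestrict_app, CommRingCat.hom_comp,
      RingHom.ker_comp_of_injective _ (ConcreteCategory.bijective_of_isIso _).1]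
    simp
  have hk : RingHom.ker (i ∣_ W).appTop.hom = Ideal.span (Set.range fun k => τ (rs.get k)) := by
    rw [key (Scheme.Opens.ι_image_top W), hker, Ideal.map_ofList]
    show Ideal.ofList _ = Ideal.span (Set.range fun k => τ (rs.get k))
    rw [Ideal.ofList]
    congr 1
    ext a
    simp only [List.mem_map, Set.mem_range]
    constructor
    · rintro ⟨c, hc, rfl⟩
      obtain ⟨k, rfl⟩ := List.mem_iff_get.1 hc
      exact ⟨k, rfl⟩
    · rintro ⟨k, rfl⟩
      exact ⟨rs.get k, List.get_mem _ _, rfl⟩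
  have hrs' : CAlgX.IsH1Regular fun k : Fin rs.length => τ (rs.get k) := by
    letI := τ.toAlgebra
    haveI : Module.Flat Γ(Y, W) Γ((W : Scheme.{u}), ⊤) := hfl
    exact SDiv28.RegSeq.isH1Regular_map (S := Γ((W : Scheme.{u}), ⊤)) hrs
  obtain ⟨ef⟩ := exists_iso_freeMod_conormal (i ∣_ W) _ hrs' hk
  have sq : IsPullback (i ∣_ W) (i ⁻¹ᵁ W).ι W.ι i := isPullback_morphismRestrict i W
  obtain ⟨θ, hθ⟩ := exists_conormalMap (i := i ∣_ W) (i' := i) (g := W.ι) (gZ := (i ⁻¹ᵁ W).ι) sq.w.symm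
  haveI : IsIso θ := (S9372.result (i ∣_ W) i W.ι (i ⁻¹ᵁ W).ι sq θ hθ).2 inferInstance
  refine ⟨_, (i ⁻¹ᵁ W).ι, inferInstance, ⟨⟨x, hxW⟩, rfl⟩, DCat.PerfTensor.isFinLocFree_of_iso
    (ef.symm ≪≫ (asIso θ).symm ≪≫ (Scheme.Modules.restrictFunctorIsoPullback (i ⁻¹ᵁ W).ι).symm.app _) ?_⟩
  exact fun y => ⟨⊤, rs.length, trivial,
    ⟨(Scheme.Modules.restrictFunctorIsoPullback (⊤ : Scheme.Opens _).ι).app _ ≪≫
      (DCat.PerfTensor.nonempty_pullback_free (⊤ : Scheme.Opens _).ι rs.length).some⟩⟩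

/-- The pullback map on stalks along an immersion: surjective and semilinear. -/
theorem exists_pullStalk (f : Z ⟶ Y) [IsImmersion f] (M : Y.Modules) (z : Z) :
    ∃ P : (DerSch.stalkFunctor Y (f z)).obj M →+ (DerSch.stalkFunctor Z z).obj ((Scheme.Modules.pullback f).obj M),
      Function.Surjective P ∧ (∀ (U : Y.Opens) (hz : f z ∈ U) (s : Γ(M, U)),
        P (gm M U (f z) hz s) = gm _ (f ⁻¹ᵁ U) z hz (OmegaSh.pullSect f M U s)) ∧
      ∀ (c : Y.presheaf.stalk (f z)) m, P (c • m) = f.stalkMap z c • P m := by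
  letI := (f.stalkMap z).hom.toAlgebra
  obtain ⟨E, hE⟩ := exists_pullback_stalk_equiv f M z
  have hsm : ∀ (c : Y.presheaf.stalk (f z)) (m : (DerSch.stalkFunctor Y (f z)).obj M),
      E (1 ⊗ₜ (c • m)) = f.stalkMap z c • E (1 ⊗ₜ m) := fun c m => by
    rw [← map_smul, TensorProduct.smul_tmul', ← TensorProduct.smul_tmul, Algebra.smul_def, mul_one, smul_eq_mul,
      mul_one]
    rfl
  refine ⟨AddMonoidHom.mk' (fun m => E (1 ⊗ₜ m)) fun m m' =>
      (congrArg E (TensorProduct.tmul_add _ _ _)).trans (map_add E _ _), fun w => ?_, fun U hz s => hE U hz s, hsm⟩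
  obtain ⟨t, rfl⟩ := E.surjective w
  suffices ∃ m : (DerSch.stalkFunctor Y (f z)).obj M, (1 : Z.presheaf.stalk z) ⊗ₜ[Y.presheaf.stalk (f z)] m = t by
    obtain ⟨m, rfl⟩ := this; exact ⟨m, rfl⟩
  induction t using TensorProduct.induction_on with
  | zero => exact ⟨0, TensorProduct.tmul_zero _ _⟩
  | tmul b m =>
    obtain ⟨a, rfl⟩ := f.stalkMap_surjective z b
    refine ⟨a • m, ?_⟩
    rw [← TensorProduct.smul_tmul, Algebra.smul_def, mul_one]
    rfl
  | add p q hp hq =>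
    obtain ⟨m, rfl⟩ := hp
    obtain ⟨m', rfl⟩ := hq
    exact ⟨m + m', TensorProduct.tmul_add _ _ _⟩

theorem tm_id_apply (x : X) (r : X.presheaf.stalk x) : (tm (𝟙 X) (x := x) (y := x) rfl) r = r := by
  rw [show tm (𝟙 X) (x := x) (y := x) rfl = (𝟙 X : X ⟶ X).stalkMap x from tm_self _ _, Scheme.Hom.stalkMap_id]
  rfl

/-- Short exactness of the conormal sequence along an `H₁`-regular immersion. -/
theorem conormal_shortExact (i : Z ⟶ Y) (j : Y ⟶ X) [IsImmersion i] [IsImmersion j]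
    [QuasiCompact i] [QuasiCompact j]
    (a : (Scheme.Modules.pullback i).obj (Omega.conormal j) ⟶ Omega.conormal (i ≫ j))
    (ha : OmegaSh.IsConormalMap (i ≫ j) j (𝟙 X) i a)
    (b : (Scheme.Modules.pullback (𝟙 Z)).obj (Omega.conormal (i ≫ j)) ⟶ Omega.conormal i)
    (hb : OmegaSh.IsConormalMap i (i ≫ j) j (𝟙 Z) b)
    (hi : RegImm.IsRegularImmersion RegImm.Kind.h1 i) :
    ∃ w : a ≫ ((Scheme.Modules.pullbackId Z).inv.app (Omega.conormal (i ≫ j)) ≫ b) = 0,
      (ShortComplex.mk a ((Scheme.Modules.pullbackId Z).inv.app (Omega.conormal (i ≫ j)) ≫ b) w).ShortExact := by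
  have main : ∀ z : Z,
      (∀ u, (DerSch.stalkFunctor Z z).map a u = 0 → u = 0) ∧
      (∀ v, (DerSch.stalkFunctor Z z).map ((Scheme.Modules.pullback (𝟙 Z)).map a ≫ b) v = 0) ∧
      (∀ v, (DerSch.stalkFunctor Z z).map b v = 0 →
        ∃ u, (DerSch.stalkFunctor Z z).map ((Scheme.Modules.pullback (𝟙 Z)).map a) u = v) ∧
      Function.Surjective ((DerSch.stalkFunctor Z z).map b) := by
    intro z
    obtain ⟨n, g, hg, hgk⟩ := exists_h1_stalk i hi z
    obtain ⟨πj, hπj⟩ := exists_pi j (i z) (y := j (i z)) rfl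
    obtain ⟨π, hπ⟩ := exists_pi (i ≫ j) z (y := j (i z)) rfl
    obtain ⟨πi, hπi⟩ := exists_pi i z (y := i z) rfl
    obtain ⟨PI, hPIs, hPI, hPIl⟩ := exists_pullStalk i (Omega.conormal j) z
    obtain ⟨PA, hPAs, hPA⟩ := exists_pullId ((Scheme.Modules.pullback i).obj (Omega.conormal j)) z
    obtain ⟨PB, hPBs, hPB⟩ := exists_pullId (Omega.conormal (i ≫ j)) z
    let p : X.presheaf.stalk (j (i z)) →+* Y.presheaf.stalk (i z) := (tm j (x := i z) rfl).hom
    have hp : Function.Surjective p := tm_surjective j (p := i z) rfl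
    have hq : ∀ r, (tm (i ≫ j) (x := z) (y := j (i z)) rfl).hom r = (i.stalkMap z).hom (p r) := fun r => by
      have h := congr($(tm_factor (f := i) (g := j) (k := i ≫ j) rfl (x := z) (y := i z) rfl rfl rfl) r)
      rw [tm_self i z] at h
      exact h.symm
    have hJ : RingHom.ker (tm (i ≫ j) (x := z) (y := j (i z)) rfl).hom = (Ideal.span (Set.range g)).comap p := by
      rw [← hgk]
      ext r
      rw [Ideal.mem_comap, RingHom.mem_ker, RingHom.mem_ker, hq]
    have hI : RingHom.ker p ≤ RingHom.ker (tm (i ≫ j) (x := z) (y := j (i z)) rfl).hom := fun r hr => by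
      rw [RingHom.mem_ker, hq, RingHom.mem_ker.1 hr, map_zero]
    have hA : ∀ x : RingHom.ker p, (DerSch.stalkFunctor Z z).map a (PI (πj x)) = π ⟨x.1, hI x.2⟩ := fun x => by
      refine (pi_conormalMap ha z (y := j (i z)) rfl (y' := j (i z)) rfl rfl hπ hπj hPI x).trans ?_
      exact congrArg π (Subtype.ext (tm_id_apply _ _))
    have hB : ∀ x : RingHom.ker (tm (i ≫ j) (x := z) (y := j (i z)) rfl).hom,
        ∃ h : p x.1 ∈ RingHom.ker (tm i (x := z) rfl).hom,
          (DerSch.stalkFunctor Z z).map b (PB (π x)) = πi ⟨p x.1, h⟩ := fun x =>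
      ⟨_, pi_conormalMap hb z (y := i z) rfl (y' := j (i z)) rfl rfl hπi hπ hPB x⟩
    have hnat : ∀ u, (DerSch.stalkFunctor Z z).map ((Scheme.Modules.pullback (𝟙 Z)).map a) (PA u) =
        PB ((DerSch.stalkFunctor Z z).map a u) := fun u => pullId_naturality a z hPA hPB u
    refine ⟨fun u hu => ?_, fun v => ?_, fun v hv => ?_, fun v => ?_⟩
    · obtain ⟨m, rfl⟩ := hPIs u
      obtain ⟨x, rfl⟩ := hπj.1 m
      rw [hA] at hu
      have h2 := mem_mul_of_mem_sq p hp hg hJ ((hπ.2.1 _).1 hu) x.2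
      suffices ∀ y ∈ RingHom.ker (tm (i ≫ j) (x := z) (y := j (i z)) rfl).hom * RingHom.ker p,
          ∃ h : y ∈ RingHom.ker p, PI (πj ⟨y, h⟩) = 0 by
        obtain ⟨_, h⟩ := this x.1 h2
        exact h
      intro y hy
      refine Submodule.mul_induction_on hy (fun r hr s hs => ?_) fun y y' hy hy' => ?_
      · refine ⟨Ideal.mul_mem_left _ r hs, ?_⟩
        rw [show (⟨r * s, Ideal.mul_mem_left _ r hs⟩ : RingHom.ker p) = r • ⟨s, hs⟩ from rfl,
          hπj.2.2.1, hPIl, show (i.stalkMap z) ((tm j (x := i z) rfl) r) = 0 from (hq r).symm.trans hr, zero_smul]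
      · obtain ⟨h, e⟩ := hy
        obtain ⟨h', e'⟩ := hy'
        refine ⟨add_mem h h', ?_⟩
        rw [show (⟨y + y', add_mem h h'⟩ : RingHom.ker p) = ⟨y, h⟩ + ⟨y', h'⟩ from rfl, map_add, map_add, e, e',
          add_zero]
    · obtain ⟨u, rfl⟩ := hPAs v
      obtain ⟨m, rfl⟩ := hPIs u
      obtain ⟨x, rfl⟩ := hπj.1 m
      rw [Functor.map_comp]
      show (DerSch.stalkFunctor Z z).map b
        ((DerSch.stalkFunctor Z z).map ((Scheme.Modules.pullback (𝟙 Z)).map a) (PA (PI (πj x)))) = 0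
      rw [hnat, hA]
      obtain ⟨h, e⟩ := hB ⟨x.1, hI x.2⟩
      rw [e]
      exact (hπi.2.1 _).2 (by
        show p x.1 ∈ _
        rw [RingHom.mem_ker.1 x.2]; exact zero_mem _)
    · obtain ⟨m, rfl⟩ := hPBs v
      obtain ⟨x, rfl⟩ := hπ.1 m
      obtain ⟨h, e⟩ := hB x
      rw [e] at hv
      have h1 : p x.1 ∈ RingHom.ker (tm i (x := z) rfl).hom ^ 2 := (hπi.2.1 _).1 hv
      have hmap : (RingHom.ker (tm (i ≫ j) (x := z) (y := j (i z)) rfl).hom).map p =
          RingHom.ker (tm i (x := z) rfl).hom := by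
        rw [hJ, Ideal.map_comap_of_surjective p hp, ← hgk, tm_self]
      rw [← hmap, ← Ideal.map_pow, Ideal.mem_map_iff_of_surjective p hp] at h1
      obtain ⟨s, hs, hse⟩ := h1
      have hd : x.1 - s ∈ RingHom.ker p := by rw [RingHom.mem_ker, map_sub, hse, sub_self]
      refine ⟨PA (PI (πj ⟨_, hd⟩)), ?_⟩
      rw [hnat, hA]
      refine congrArg PB ?_
      have hs' : s ∈ RingHom.ker (tm (i ≫ j) (x := z) (y := j (i z)) rfl).hom := Ideal.pow_le_self two_ne_zero hs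
      have hsum : π x = π ⟨s, hs'⟩ + π ⟨x.1 - s, hI hd⟩ :=
        (congrArg π (Subtype.ext (add_sub_cancel _ _).symm)).trans (map_add π _ _)
      exact ((hsum.trans (congrArg (· + _) ((hπ.2.1 ⟨s, hs'⟩).2 hs))).trans (zero_add _)).symm
    · obtain ⟨⟨y, hy⟩, rfl⟩ := hπi.1 v
      obtain ⟨r, rfl⟩ := hp y
      have hr : r ∈ RingHom.ker (tm (i ≫ j) (x := z) (y := j (i z)) rfl).hom := by
        rw [RingHom.mem_ker, hq]
        rw [RingHom.mem_ker, tm_self] at hy
        exact hy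
      obtain ⟨h, e⟩ := hB ⟨r, hr⟩
      exact ⟨PB (π ⟨r, hr⟩), e⟩
  let η := (Scheme.Modules.pullbackId Z).inv
  have hnat' : a ≫ η.app (Omega.conormal (i ≫ j)) =
      η.app _ ≫ (Scheme.Modules.pullback (𝟙 Z)).map a := η.naturality a
  have w' : (Scheme.Modules.pullback (𝟙 Z)).map a ≫ b = 0 := hom_eq_zero_of_stalks _ fun z => (main z).2.1
  have w : a ≫ (η.app (Omega.conormal (i ≫ j)) ≫ b) = 0 := by
    rw [← Category.assoc, hnat', Category.assoc, w', comp_zero]
  refine ⟨w, ?_⟩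
  haveI : Mono a := mono_of_stalks_injective a fun z => (injective_iff_map_eq_zero _).2 (main z).1
  haveI : Epi b := epi_of_stalks b fun z => (main z).2.2.2
  have hex : (ShortComplex.mk ((Scheme.Modules.pullback (𝟙 Z)).map a) b w').Exact :=
    exact_of_stalks _ fun z => (main z).2.2.1
  exact ShortComplex.ShortExact.mk' ((ShortComplex.exact_iff_of_iso (ShortComplex.isoMk
    (S₁ := ShortComplex.mk a (η.app (Omega.conormal (i ≫ j)) ≫ b) w)
    (S₂ := ShortComplex.mk ((Scheme.Modules.pullback (𝟙 Z)).map a) b w')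
    ((Scheme.Modules.pullbackId Z).symm.app _) ((Scheme.Modules.pullbackId Z).symm.app _) (Iso.refl _)
    hnat'.symm (Category.comp_id _).symm)).2 hex) inferInstance (epi_comp _ _)

end Groth.Agent.RegImmH1
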