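import Groth.Prelude.Def_CAlgX
import Groth.Agent.SDiv28.RegSeq
import Mathlib.RingTheory.Ideal.Cotangent
import Mathlib.LinearAlgebra.Basis.Defs

/-!
# `H₁`-regular sequences and conormal modules: algebra

A basis of the conormal module of an `H₁`-regular sequence, and the identity `I ∩ J² = J I` for
ideals `I ≤ J` with `J / I` generated by an `H₁`-regular sequence.
-/

set_option autoImplicit false

universe u

namespace Groth.Agent.RegImmH1

variable {A B : Type u} [CommRing A] [CommRing B] {n : ℕ}

/-- The relations among an `H₁`-regular sequence have coefficients in its ideal. -/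
theorem relation_mem {f : Fin n → B} (h : CAlgX.IsH1Regular f) {a : Fin n → B}
    (ha : ∑ i, a i * f i = 0) (i : Fin n) : a i ∈ Ideal.span (Set.range f) := by
  have H := h a ha
  clear ha
  induction H using Submodule.span_induction with
  | mem v hv =>
    obtain ⟨k, l, rfl⟩ := hv
    rw [Pi.sub_apply, Pi.single_apply, Pi.single_apply]
    refine sub_mem ?_ ?_ <;> split_ifs
    all_goals first | exact zero_mem _ | exact Ideal.subset_span ⟨_, rfl⟩
  | zero => exact zero_mem _
  | add p q _ _ hp hq => exact add_mem hp hq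
  | smul r p _ hp => exact Ideal.mul_mem_left _ r hp

/-- A member of `(span f)²` is a combination of `f` with coefficients in `span f`. -/
theorem exists_coeff_of_mem_sq (f : Fin n → B) {x : B} (hx : x ∈ Ideal.span (Set.range f) ^ 2) :
    ∃ b : Fin n → B, (∀ i, b i ∈ Ideal.span (Set.range f)) ∧ ∑ i, b i * f i = x := by
  rw [pow_two] at hx
  refine Submodule.mul_induction_on hx (fun p hp q hq => ?_) fun p q hp hq => ?_
  · obtain ⟨c, hc⟩ := Ideal.mem_span_range_iff_exists_fun.1 hq
    refine ⟨fun i => p * c i, fun i => Ideal.mul_mem_right _ _ hp, ?_⟩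
    rw [← hc, Finset.mul_sum]
    exact Finset.sum_congr rfl fun i _ => mul_assoc _ _ _
  · obtain ⟨b, hb, rfl⟩ := hp
    obtain ⟨b', hb', rfl⟩ := hq
    exact ⟨b + b', fun i => add_mem (hb i) (hb' i), by
      simp only [Pi.add_apply, add_mul, Finset.sum_add_distrib]⟩

/-- The classes of an `H₁`-regular sequence are a basis of the conormal module of its ideal. -/
theorem exists_basis_cotangent {I : Ideal B} (f : Fin n → I) (h : CAlgX.IsH1Regular fun i => (f i : B))
    (hfI : Ideal.span (Set.range fun i => (f i : B)) = I) :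
    ∃ b : Module.Basis (Fin n) (B ⧸ I) I.Cotangent, ∀ i, b i = I.toCotangent (f i) := by
  have hli : LinearIndependent (B ⧸ I) fun i => I.toCotangent (f i) := by
    rw [Fintype.linearIndependent_iff]
    intro c hc
    choose a ha using fun i => Ideal.Quotient.mk_surjective (I := I) (c i)
    have h0 : I.toCotangent (∑ i, a i • f i) = 0 := by
      rw [← hc, map_sum]
      refine Finset.sum_congr rfl fun i _ => ?_
      rw [map_smul, ← ha i]
      rfl
    rw [Ideal.toCotangent_eq_zero] at h0
    intro i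
    have h1 : (∑ j, a j * (f j : B)) ∈ Ideal.span (Set.range fun j => (f j : B)) ^ 2 := by
      rw [hfI]
      simpa using h0
    obtain ⟨b, hb, hbe⟩ := exists_coeff_of_mem_sq _ h1
    have h2 := relation_mem h (a := a - b) (by
      simp only [Pi.sub_apply, sub_mul, Finset.sum_sub_distrib, hbe, sub_self]) i
    rw [← ha i, Ideal.Quotient.eq_zero_iff_mem, ← hfI]
    simpa using add_mem h2 (hb i)
  have hsp : ⊤ ≤ Submodule.span (B ⧸ I) (Set.range fun i => I.toCotangent (f i)) := by
    intro z _
    obtain ⟨x, rfl⟩ := I.toCotangent_surjective z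
    obtain ⟨a, ha⟩ := Ideal.mem_span_range_iff_exists_fun.1 (hfI.ge x.2)
    rw [show x = ∑ i, a i • f i from Subtype.ext (by simpa using ha.symm), map_sum]
    refine Submodule.sum_mem _ fun i _ => ?_
    rw [map_smul]
    refine Submodule.smul_of_tower_mem _ (a i) (Submodule.subset_span ?_)
    exact ⟨i, rfl⟩
  exact ⟨Module.Basis.mk hli hsp, fun i => Module.Basis.mk_apply hli hsp i⟩

/-- For `ker p ≤ J` with `J / ker p` generated by an `H₁`-regular sequence: `ker p ∩ J² ≤ J · ker p`. -/
theorem mem_mul_of_mem_sq (p : A →+* B) (hp : Function.Surjective p) {J : Ideal A} {g : Fin n → B}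
    (hg : CAlgX.IsH1Regular g) (hJ : J = (Ideal.span (Set.range g)).comap p) {x : A}
    (hx : x ∈ J ^ 2) (hx0 : p x = 0) : x ∈ J * RingHom.ker p := by
  choose G hG using fun i => hp (g i)
  have hGJ : ∀ i, G i ∈ J := fun i => by
    rw [hJ, Ideal.mem_comap, hG]; exact Ideal.subset_span ⟨i, rfl⟩
  have hIJ : RingHom.ker p ≤ J := fun y hy => by
    rw [hJ, Ideal.mem_comap, RingHom.mem_ker.1 hy]; exact zero_mem _
  -- every member of `J` is a combination of the lifts plus a member of the kernel
  have key : ∀ y ∈ J, ∃ (c : Fin n → A) (w : A), p w = 0 ∧ y = (∑ i, c i * G i) + w := fun y hy => by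
    rw [hJ, Ideal.mem_comap] at hy
    obtain ⟨c, hc⟩ := Ideal.mem_span_range_iff_exists_fun.1 hy
    choose C hC using fun i => hp (c i)
    refine ⟨C, y - ∑ i, C i * G i, ?_, (add_sub_cancel _ _).symm⟩
    simp only [map_sub, map_sum, map_mul, hC, hG, hc, sub_self]
  have hdec : ∀ y ∈ J * J, ∃ (c : Fin n → A) (w : A), (∀ i, c i ∈ J) ∧ w ∈ J * RingHom.ker p ∧
      y = (∑ i, c i * G i) + w := fun y hy => by
    refine Submodule.mul_induction_on hy (fun a ha b hb => ?_) fun a b ha hb => ?_
    · obtain ⟨c, w, hw, rfl⟩ := key b hb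
      refine ⟨fun i => a * c i, a * w, fun i => Ideal.mul_mem_right _ _ ha,
        Ideal.mul_mem_mul ha (RingHom.mem_ker.2 hw), ?_⟩
      rw [mul_add, Finset.mul_sum]
      simp only [mul_assoc]
    · obtain ⟨c, w, hc, hw, rfl⟩ := ha
      obtain ⟨c', w', hc', hw', rfl⟩ := hb
      refine ⟨c + c', w + w', fun i => add_mem (hc i) (hc' i), add_mem hw hw', ?_⟩
      simp only [Pi.add_apply, add_mul, Finset.sum_add_distrib]
      ring
  rw [pow_two] at hx
  obtain ⟨c, w, -, hw, rfl⟩ := hdec x hx
  refine add_mem ?_ hw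
  have hw0 : p w = 0 := RingHom.mem_ker.1 ((Ideal.mul_le_right : J * RingHom.ker p ≤ _) hw)
  have hrel : ∑ i, p (c i) * g i = 0 := by
    simpa [map_sum, map_mul, hG, hw0] using hx0
  -- lift the Koszul relations
  have hlift : ∃ c' : Fin n → A, (∀ i, p (c' i) = p (c i)) ∧ ∑ i, c' i * G i = 0 := by
    have H := hg _ hrel
    suffices ∀ v ∈ Submodule.span B {v : Fin n → B | ∃ i j : Fin n, v = Pi.single i (g j) - Pi.single j (g i)},
        ∃ c' : Fin n → A, (∀ i, p (c' i) = v i) ∧ ∑ i, c' i * G i = 0 from this _ H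
    intro v hv
    induction hv using Submodule.span_induction with
    | mem v hv =>
      obtain ⟨k, l, rfl⟩ := hv
      refine ⟨Pi.single k (G l) - Pi.single l (G k), fun i => ?_, ?_⟩
      · rw [Pi.sub_apply, Pi.sub_apply, map_sub, Pi.apply_single (fun _ => p) (fun _ => map_zero p),
          Pi.apply_single (fun _ => p) (fun _ => map_zero p), hG, hG]
      · simp [sub_mul, Finset.sum_sub_distrib, Pi.single_apply, ite_mul, mul_comm (G l)]
    | zero => exact ⟨0, fun i => map_zero p, by simp⟩
    | add a b _ _ ha hb =>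
      obtain ⟨a', ha', ha''⟩ := ha
      obtain ⟨b', hb', hb''⟩ := hb
      exact ⟨a' + b', fun i => by simp [ha', hb'], by
        simp [add_mul, Finset.sum_add_distrib, ha'', hb'']⟩
    | smul r a _ ha =>
      obtain ⟨a', ha', ha''⟩ := ha
      obtain ⟨r', rfl⟩ := hp r
      exact ⟨r' • a', fun i => by simp [ha'], by
        simp [mul_assoc, ← Finset.mul_sum, ha'']⟩
  obtain ⟨c', hc', hc'0⟩ := hlift
  rw [← sub_zero (∑ i, c i * G i), ← hc'0, ← Finset.sum_sub_distrib]
  refine Submodule.sum_mem _ fun i _ => ?_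
  rw [← sub_mul, mul_comm (c i - c' i)]
  exact Ideal.mul_mem_mul (hGJ i) (RingHom.mem_ker.2 (by rw [map_sub, hc', sub_self]))

end Groth.Agent.RegImmH1
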